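import Mathlib
import Cfsg.Prelude
import Cfsg.Agent.Lib.Coprime.Action
import Cfsg.Agent.Lib.Coprime.PxQ
import Cfsg.Agent.Lib.Components.Constrained
import Cfsg.Agent.Lib.Cores.PCore

/-!
Balance for centralisers in constrained local subgroups.
-/

set_option autoImplicit false

open scoped commutatorElement

namespace Cfsg.Agent.Lib.EarlyCharTwo

/-- In a `p`-constrained group, a `p'`-subgroup centralising a `p`-subgroup `T` and normalised by
the centraliser of `T` lies in the `p'`-core. -/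
theorem le_pPrimeCore_of_centralizer {L : Type*} [Group L] [Finite L] {p : ℕ} [Fact p.Prime]
    (hcon : Cfsg.IsPConstrained p L) {T K : Subgroup L} (hT : IsPGroup p T)
    (hK : (Nat.card K).Coprime p) (hKT : K ≤ Subgroup.centralizer (T : Set L))
    (hn : Subgroup.centralizer (T : Set L) ≤ Subgroup.normalizer (K : Set L)) :
    K ≤ Cfsg.pPrimeCore p L := by
  set N := Cfsg.pPrimeCore p L with hN
  set f := QuotientGroup.mk' N with hf
  set P := Cfsg.pCore p (L ⧸ N) with hP
  have hPp : IsPGroup p P := Cores.pCore_isPGroup p _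
  have hPc : Subgroup.centralizer (P : Set (L ⧸ N)) ≤ P := by
    obtain ⟨S⟩ : Nonempty (Sylow p (Cfsg.pPrimePCore p L)) := inferInstance
    rw [← Subgroup.comap_le_comap_of_surjective (QuotientGroup.mk'_surjective N),
      Components.comap_centralizer_pCore_quotient p S]
    exact sup_le (hcon S) (Components.pPrimeCore_le_pPrimePCore p)
  have hKf : (Nat.card (K.map f)).Coprime p := hK.coprime_dvd_left (Subgroup.card_map_dvd _ _)
  have hbot : P ⊓ K.map f = ⊥ := by
    obtain ⟨n, hn⟩ := IsPGroup.iff_card.mp hPp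
    exact Coprime.inf_eq_bot_of_coprime_card (hn ▸ (hKf.pow_right n).symm)
  have hTK : T.map f ≤ Subgroup.centralizer ((K.map f : Subgroup (L ⧸ N)) : Set (L ⧸ N)) := by
    rintro _ ⟨t, ht, rfl⟩
    rw [Subgroup.mem_centralizer_iff]
    rintro _ ⟨k, hk, rfl⟩
    rw [← map_mul, ← map_mul, Subgroup.mem_centralizer_iff.mp (hKT hk) t ht]
  have hfix : P ⊓ Subgroup.centralizer ((T.map f : Subgroup (L ⧸ N)) : Set (L ⧸ N)) ≤
      Subgroup.centralizer ((K.map f : Subgroup (L ⧸ N)) : Set (L ⧸ N)) := by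
    rintro w ⟨hwP, hwC⟩
    obtain ⟨x, rfl⟩ := QuotientGroup.mk'_surjective N w
    obtain ⟨i, hi⟩ := IsPGroup.iff_card.mp hT
    have hTsolv : Group.IsSolvable T := (have := hT.isNilpotent; inferInstance)
    obtain ⟨n, hn', hnC⟩ := Coprime.exists_mem_centralizer_of_fixed_coset (A := T) (N := N)
      Subgroup.le_normalizer_of_normal
      (hi ▸ ((Cores.pPrimeCore_coprime p L).pow_right i).symm) (Or.inl hTsolv)
      (Subgroup.le_normalizer_of_normal (H := N) (K := ⊤) trivial)
      (fun t ht => (QuotientGroup.eq_one_iff _).mp (by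
        show f (t * x * t⁻¹ * x⁻¹) = 1
        rw [map_mul, map_mul, map_mul, map_inv, map_inv,
          Subgroup.mem_centralizer_iff.mp hwC _ (Subgroup.mem_map_of_mem f ht), mul_inv_cancel_right]
        exact mul_inv_cancel _))
    have hfy : f (x * n) = f x := by
      rw [map_mul, show f n = 1 from (QuotientGroup.eq_one_iff n).mpr hn', mul_one]
    have hw : f x ∈ Subgroup.normalizer ((K.map f : Subgroup (L ⧸ N)) : Set (L ⧸ N)) :=
      hfy ▸ Subgroup.le_normalizer_map f (Subgroup.mem_map_of_mem f (hn hnC))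
    rw [Subgroup.mem_centralizer_iff]
    intro q hq
    have h1 : ⁅q, f x⁆ ∈ P ⊓ K.map f := by
      refine ⟨P.mul_mem ((Cfsg.pCore_normal p (L ⧸ N)).conj_mem _ hwP q) (P.inv_mem hwP), ?_⟩
      have h2 := (K.map f).mul_mem hq ((Subgroup.mem_normalizer_iff.mp hw _).mp (inv_mem hq))
      simpa [commutatorElement_def, mul_assoc] using h2
    rw [hbot, Subgroup.mem_bot, commutatorElement_eq_one_iff_mul_comm] at h1
    exact h1
  have key : K.map f ≤ Subgroup.centralizer (P : Set (L ⧸ N)) := by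
    haveI := Cfsg.pCore_normal p (L ⧸ N)
    exact Coprime.le_centralizer_of_PxQ (hT.map f) hKf hPp hTK Subgroup.le_normalizer_of_normal
      Subgroup.le_normalizer_of_normal hfix
  intro k hk
  have h1 : f k ∈ P ⊓ K.map f :=
    ⟨hPc (key (Subgroup.mem_map_of_mem f hk)), Subgroup.mem_map_of_mem f hk⟩
  rw [hbot, Subgroup.mem_bot] at h1
  exact (QuotientGroup.eq_one_iff k).mp h1

variable {G : Type*} [Group G]

/-- The odd core of a subgroup, inside the ambient group. -/
def oddCoreIn (H : Subgroup G) : Subgroup G :=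
  (Cfsg.pPrimeCore 2 ↥H).map H.subtype

theorem oddCoreIn_le (H : Subgroup G) : oddCoreIn H ≤ H :=
  Subgroup.map_subtype_le _

theorem oddCoreIn_centralizer (x : G) :
    oddCoreIn (Subgroup.centralizer ({x} : Set G)) = Cfsg.centralizerPPrimeCore 2 x := rfl

theorem odd_card_oddCoreIn [Finite G] (H : Subgroup G) : Odd (Nat.card (oddCoreIn H)) := by
  unfold oddCoreIn
  rw [Subgroup.card_map_of_injective H.subtype_injective]
  exact Nat.coprime_two_right.mp (Cores.pPrimeCore_coprime 2 _)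

theorem le_normalizer_oddCoreIn (H : Subgroup G) :
    H ≤ Subgroup.normalizer (oddCoreIn H : Set G) := by
  intro h hh
  rw [Subgroup.mem_normalizer_iff]
  intro y
  constructor
  · rintro ⟨y', hy', rfl⟩
    exact ⟨⟨h, hh⟩ * y' * (⟨h, hh⟩ : ↥H)⁻¹,
      (Cfsg.pPrimeCore_normal 2 ↥H).conj_mem _ hy' _, by simp⟩
  · rintro ⟨y', hy', hyy⟩
    refine ⟨(⟨h, hh⟩ : ↥H)⁻¹ * y' * ((⟨h, hh⟩ : ↥H)⁻¹)⁻¹,
      (Cfsg.pPrimeCore_normal 2 ↥H).conj_mem _ hy' _, ?_⟩
    simp only [Subgroup.coe_subtype] at hyy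
    simp [hyy, mul_assoc]

theorem le_oddCoreIn [Finite G] {H X : Subgroup G} (hXH : X ≤ H)
    (hn : H ≤ Subgroup.normalizer (X : Set G)) (hX : Odd (Nat.card X)) : X ≤ oddCoreIn H := by
  have h1 : X.subgroupOf H ≤ Cfsg.pPrimeCore 2 ↥H := by
    refine Cores.le_pPrimeCore (Subgroup.normal_subgroupOf_of_le_normalizer hn) ?_
    rw [Nat.card_congr (Subgroup.subgroupOfEquivOfLe hXH).toEquiv]
    exact Nat.coprime_two_right.mpr hX
  exact fun x hx => ⟨⟨x, hXH hx⟩, h1 hx, rfl⟩

/-- Balance inside a constrained subgroup `L`. -/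
theorem le_oddCoreIn_of_constrained [Finite G] {L T K : Subgroup G}
    (hcon : Cfsg.IsPConstrained 2 ↥L) (hT : IsPGroup 2 T) (hTL : T ≤ L) (hKL : K ≤ L)
    (hK : Odd (Nat.card K)) (hKT : K ≤ Subgroup.centralizer (T : Set G))
    (hn : L ⊓ Subgroup.centralizer (T : Set G) ≤ Subgroup.normalizer (K : Set G)) :
    K ≤ oddCoreIn L := by
  haveI : Fact (Nat.Prime 2) := ⟨Nat.prime_two⟩
  have h1 : K.subgroupOf L ≤ Cfsg.pPrimeCore 2 ↥L := by
    refine le_pPrimeCore_of_centralizer hcon (T := T.subgroupOf L)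
      (hT.of_equiv (Subgroup.subgroupOfEquivOfLe hTL).symm) ?_ ?_ ?_
    · rw [Nat.card_congr (Subgroup.subgroupOfEquivOfLe hKL).toEquiv]
      exact Nat.coprime_two_right.mpr hK
    · intro k hk
      rw [Subgroup.mem_centralizer_iff]
      intro t ht
      exact Subtype.ext (Subgroup.mem_centralizer_iff.mp (hKT hk) t ht)
    · intro c hc
      have hcG : (c : G) ∈ L ⊓ Subgroup.centralizer (T : Set G) := by
        refine ⟨c.2, Subgroup.mem_centralizer_iff.mpr fun t ht => ?_⟩
        exact congrArg Subtype.val (Subgroup.mem_centralizer_iff.mp hc ⟨t, hTL ht⟩ ht)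
      rw [Subgroup.mem_normalizer_iff]
      intro y
      exact Subgroup.mem_normalizer_iff.mp (hn hcG) (y : G)
  exact fun x hx => ⟨⟨x, hKL hx⟩, h1 hx, rfl⟩

end Cfsg.Agent.Lib.EarlyCharTwo
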