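import Cfsg.Agent.Lib.EarlyCharTwo.Signal

/-!
Characteristic two type in the early sense with cyclic centres: the central involutions are isolated.
-/

set_option autoImplicit false

open scoped commutatorElement

namespace Cfsg.Agent.Lib.EarlyCharTwo

variable {G : Type*} [Group G] [Finite G]

/-- The two-locals have trivial odd core. -/
theorem oddCoreIn_normalizer_eq_bot (hcon : LocallyConstrained G)
    (h0 : ∀ x : G, orderOf x = 2 → Cfsg.centralizerPPrimeCore 2 x = ⊥)
    {T : Subgroup G} (hT : IsPGroup 2 T) (hT1 : T ≠ ⊥) :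
    oddCoreIn (Subgroup.normalizer (T : Set G)) = ⊥ := by
  haveI : Fact (Nat.Prime 2) := ⟨Nat.prime_two⟩
  set N := Subgroup.normalizer (T : Set G) with hN
  haveI : Nontrivial T := (Subgroup.nontrivial_iff_ne_bot T).mpr hT1
  haveI := hT.center_nontrivial
  obtain ⟨c, hc⟩ := exists_prime_orderOf_dvd_card' 2 (G := Subgroup.center T) (by
    obtain ⟨n, hn⟩ := IsPGroup.iff_card.mp (hT.to_subgroup (Subgroup.center T))
    rw [hn]
    refine dvd_pow_self 2 fun h => ?_
    rw [h, pow_zero] at hn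
    exact absurd hn (Finite.one_lt_card (α := Subgroup.center T)).ne')
  set x : G := ((c : T) : G) with hx
  have hxo : orderOf x = 2 := by rw [hx, Subgroup.orderOf_coe, Subgroup.orderOf_coe, hc]
  have hxT : x ∈ T := (c : T).2
  have hxc : ∀ t ∈ T, t * x = x * t := fun t ht =>
    congrArg Subtype.val (Subgroup.mem_center_iff.mp c.2 ⟨t, ht⟩)
  set K := oddCoreIn N with hK
  have hKN : K ≤ N := oddCoreIn_le _
  have hKT : K ≤ Subgroup.centralizer (T : Set G) := by
    intro k hk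
    rw [Subgroup.mem_centralizer_iff]
    intro t ht
    have h1 : ⁅t, k⁆ ∈ T := by
      have := T.mul_mem ht ((Subgroup.mem_normalizer_iff.mp (hKN hk) t⁻¹).mp (inv_mem ht))
      simpa [commutatorElement_def, mul_assoc] using this
    have h2 : ⁅t, k⁆ ∈ K := by
      have := K.mul_mem ((Subgroup.mem_normalizer_iff.mp
        (le_normalizer_oddCoreIn N (Subgroup.le_normalizer ht)) k).mp hk) (inv_mem hk)
      simpa [commutatorElement_def, mul_assoc] using this
    have h3 : T ⊓ K = ⊥ := by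
      obtain ⟨n, hn⟩ := IsPGroup.iff_card.mp hT
      exact Coprime.inf_eq_bot_of_coprime_card
        (hn ▸ (Nat.coprime_two_left.mpr (odd_card_oddCoreIn _)).pow_left n)
    have h4 : ⁅t, k⁆ ∈ T ⊓ K := ⟨h1, h2⟩
    rw [h3, Subgroup.mem_bot, commutatorElement_eq_one_iff_mul_comm] at h4
    exact h4
  rw [← le_bot_iff, ← h0 x hxo, ← oddCoreIn_centralizer]
  refine le_oddCoreIn_of_constrained (constrained_centralizer hcon hxo) hT ?_ ?_
    (odd_card_oddCoreIn _) hKT ?_
  · exact fun t ht => Subgroup.mem_centralizer_singleton_iff.mpr (hxc t ht)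
  · exact fun k hk => Subgroup.mem_centralizer_singleton_iff.mpr
      (Subgroup.mem_centralizer_iff.mp (hKT hk) x hxT).symm
  · exact inf_le_right.trans ((Subgroup.centralizer_le_normalizer _).trans (le_normalizer_oddCoreIn N))

/-- The two-locals are of characteristic two. -/
theorem centralizer_pCore_le (hcon : LocallyConstrained G)
    (h0 : ∀ x : G, orderOf x = 2 → Cfsg.centralizerPPrimeCore 2 x = ⊥)
    {M : Subgroup G} (hM : Cfsg.IsTwoLocal M) :
    Subgroup.centralizer (Cfsg.pCore 2 ↥M : Set ↥M) ≤ Cfsg.pCore 2 ↥M := by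
  haveI : Fact (Nat.Prime 2) := ⟨Nat.prime_two⟩
  obtain ⟨T, hT, hT1, rfl⟩ := hM
  set N := Subgroup.normalizer (T : Set G) with hN
  have hO : Cfsg.pPrimeCore 2 ↥N = ⊥ := by
    have h := oddCoreIn_normalizer_eq_bot hcon h0 hT hT1
    rwa [oddCoreIn, Subgroup.map_eq_bot_iff_of_injective _ (Subgroup.subtype_injective _)] at h
  have hU : Cfsg.pPrimePCore 2 ↥N ≤ Cfsg.pCore 2 ↥N := by
    refine Cores.le_pCore (Components.pPrimePCore_normal' 2) ?_
    exact (Cores.pCore_isPGroup 2 (↥N ⧸ Cfsg.pPrimeCore 2 ↥N)).comap_of_injective _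
      ((injective_iff_map_eq_one _).mpr fun y hy => by
        have h := (QuotientGroup.eq_one_iff y).mp hy
        rwa [hO, Subgroup.mem_bot] at h)
  obtain ⟨P⟩ : Nonempty (Sylow 2 (Cfsg.pPrimePCore 2 ↥N)) := inferInstance
  exact ((Subgroup.centralizer_le ((Subgroup.map_subtype_le _).trans hU)).trans
    (hcon T hT hT1 P)).trans hU

theorem exists_maximal_ge {N : Subgroup G} (hN : Cfsg.IsTwoLocal N) :
    ∃ M, Cfsg.IsMaximalTwoLocal M ∧ N ≤ M := by
  obtain ⟨M, hM, hmax⟩ := (Set.toFinite {M : Subgroup G | Cfsg.IsTwoLocal M ∧ N ≤ M}).exists_maximal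
    ⟨N, hN, le_rfl⟩
  exact ⟨M, ⟨hM.1, fun L hL hle => le_antisymm (hmax ⟨hL, hM.2.trans hle⟩ hle) hle⟩, hM.2⟩

theorem isTwoLocal_centralizer {x : G} (hx : orderOf x = 2) :
    Cfsg.IsTwoLocal (Subgroup.centralizer ({x} : Set G)) :=
  ⟨Subgroup.zpowers x, isPGroup_zpowers_of_involution hx, zpowers_ne_bot_of_involution hx,
    (normalizer_zpowers_of_involution hx).symm⟩

/-- `u` is the distinguished involution of `M`. -/
def IsCore (M : Subgroup G) (u : G) : Prop :=
  orderOf u = 2 ∧ M = Subgroup.centralizer ({u} : Set G) ∧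
    (∃ h : u ∈ M, (⟨u, h⟩ : ↥M) ∈ Cfsg.pCore 2 ↥M) ∧
    ∀ w : G, orderOf w = 2 → ∀ hw : w ∈ M,
      (⟨w, hw⟩ : ↥M) ∈ Subgroup.centralizer (Cfsg.pCore 2 ↥M : Set ↥M) → w = u

/-- Hypotheses of the reduction. -/
structure CyclicCentres (G : Type*) [Group G] : Prop where
  charTwo : ∀ M : Subgroup G, Cfsg.IsTwoLocal M →
    Subgroup.centralizer (Cfsg.pCore 2 ↥M : Set ↥M) ≤ Cfsg.pCore 2 ↥M
  cyclic : ∀ M : Subgroup G, Cfsg.IsMaximalTwoLocal M →
    IsCyclic ↥(Subgroup.center ↥(Cfsg.pCore 2 ↥M))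

theorem orderOf_two_unique {C : Type*} [Group C] [IsCyclic C] [Finite C] {a b : C}
    (ha : orderOf a = 2) (hb : orderOf b = 2) : a = b := by
  classical
  haveI := Fintype.ofFinite C
  by_contra hne
  have h := IsCyclic.card_pow_eq_one_le (α := C) (n := 2) two_pos
  have h3 : ({1, a, b} : Finset C).card = 3 := by
    rw [Finset.card_insert_of_notMem, Finset.card_insert_of_notMem, Finset.card_singleton]
    · simpa using hne
    · simp [(ne_one_of_orderOf_two ha).symm, (ne_one_of_orderOf_two hb).symm]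
  have hsub : ({1, a, b} : Finset C) ⊆ Finset.univ.filter fun x : C => x ^ 2 = 1 := by
    intro x hx
    simp only [Finset.mem_insert, Finset.mem_singleton] at hx
    rcases hx with rfl | rfl | rfl <;>
      simp [pow_two, mul_self_of_orderOf_two, ha, hb]
  have := Finset.card_le_card hsub
  omega

theorem exists_isCore (hc : CyclicCentres G) {M : Subgroup G} (hM : Cfsg.IsMaximalTwoLocal M) :
    ∃ u, IsCore M u := by
  haveI : Fact (Nat.Prime 2) := ⟨Nat.prime_two⟩
  set Q := Cfsg.pCore 2 ↥M with hQ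
  have hQp : IsPGroup 2 Q := Cores.pCore_isPGroup 2 _
  have hQ1 : Q ≠ ⊥ := by
    obtain ⟨T, hT, hT1, hTM⟩ := hM.1
    intro hbot
    have h1 : T.subgroupOf M ≤ Q := by
      refine Cores.le_pCore (Subgroup.normal_subgroupOf_of_le_normalizer hTM.le) ?_
      exact hT.of_equiv (Subgroup.subgroupOfEquivOfLe (hTM ▸ Subgroup.le_normalizer)).symm
    refine hT1 (eq_bot_iff.mpr fun t ht => ?_)
    have h2 : (⟨t, hTM ▸ Subgroup.le_normalizer ht⟩ : ↥M) ∈ (⊥ : Subgroup ↥M) := hbot ▸ h1 ht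
    exact Subgroup.mem_bot.mpr (congrArg Subtype.val (Subgroup.mem_bot.mp h2))
  haveI : Nontrivial Q := (Subgroup.nontrivial_iff_ne_bot Q).mpr hQ1
  haveI := hQp.center_nontrivial
  haveI := hc.cyclic M hM
  obtain ⟨c, hc2⟩ := exists_prime_orderOf_dvd_card' 2 (G := Subgroup.center Q) (by
    obtain ⟨n, hn⟩ := IsPGroup.iff_card.mp (hQp.to_subgroup (Subgroup.center Q))
    rw [hn]
    refine dvd_pow_self 2 fun h => ?_
    rw [h, pow_zero] at hn
    exact absurd hn (Finite.one_lt_card (α := Subgroup.center Q)).ne')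
  set uM : ↥M := ((c : Q) : ↥M) with huM
  have huMo : orderOf uM = 2 := by rw [huM, Subgroup.orderOf_coe, Subgroup.orderOf_coe, hc2]
  -- uniqueness
  have huniq : ∀ w : ↥M, orderOf w = 2 → w ∈ Subgroup.centralizer (Q : Set ↥M) → w = uM := by
    intro w hw hwc
    have hwQ : w ∈ Q := hc.charTwo M hM.1 hwc
    have hwz : (⟨w, hwQ⟩ : Q) ∈ Subgroup.center Q := Subgroup.mem_center_iff.mpr fun q =>
      Subtype.ext (Subgroup.mem_centralizer_iff.mp hwc _ q.2)
    have h1 : orderOf (⟨⟨w, hwQ⟩, hwz⟩ : Subgroup.center Q) = 2 := by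
      rw [← Subgroup.orderOf_coe, ← Subgroup.orderOf_coe]; exact hw
    exact congrArg (fun y : Subgroup.center Q => ((y : Q) : ↥M)) (orderOf_two_unique h1 hc2)
  have huc : uM ∈ Subgroup.centralizer (Q : Set ↥M) := Subgroup.mem_centralizer_iff.mpr fun q hq =>
    congrArg Subtype.val (Subgroup.mem_center_iff.mp c.2 ⟨q, hq⟩)
  have hcentral : ∀ m : ↥M, m * uM = uM * m := by
    intro m
    have h1 : m * uM * m⁻¹ = uM := by
      refine huniq _ ?_ ?_
      · rw [← MulAut.conj_apply]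
        exact (orderOf_injective (MulAut.conj m).toMonoidHom (MulAut.conj m).injective uM).trans huMo
      · exact (inferInstance : (Subgroup.centralizer (Q : Set ↥M)).Normal).conj_mem _ huc m
    calc m * uM = m * uM * m⁻¹ * m := by group
      _ = uM * m := by rw [h1]
  refine ⟨(uM : G), (Subgroup.orderOf_coe uM).trans huMo, ?_, ⟨uM.2, (c : Q).2⟩, ?_⟩
  · refine (hM.2 _ (isTwoLocal_centralizer ((Subgroup.orderOf_coe uM).trans huMo)) ?_).symm
    intro m hm
    exact Subgroup.mem_centralizer_singleton_iff.mpr (congrArg Subtype.val (hcentral ⟨m, hm⟩))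
  · intro w hw hwM hwc
    exact congrArg Subtype.val (huniq ⟨w, hwM⟩ (by rw [← Subgroup.orderOf_coe]; exact hw) hwc)

/-- `w` is a central involution of the Sylow two-subgroup `R`. -/
def Cen (R : Sylow 2 G) (w : G) : Prop :=
  orderOf w = 2 ∧ w ∈ (R : Subgroup G) ∧ (R : Subgroup G) ≤ Subgroup.centralizer ({w} : Set G)

theorem exists_cen (h2 : 2 ∣ Nat.card G) (R : Sylow 2 G) : ∃ w, Cen R w := by
  haveI : Fact (Nat.Prime 2) := ⟨Nat.prime_two⟩
  haveI : Nontrivial ↥(R : Subgroup G) :=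
    (Subgroup.nontrivial_iff_ne_bot _).mpr (R.ne_bot_of_dvd_card h2)
  haveI := R.isPGroup'.center_nontrivial
  obtain ⟨c, hc⟩ := exists_prime_orderOf_dvd_card' 2 (G := Subgroup.center ↥(R : Subgroup G)) (by
    obtain ⟨n, hn⟩ := IsPGroup.iff_card.mp (R.isPGroup'.to_subgroup (Subgroup.center _))
    rw [hn]
    refine dvd_pow_self 2 fun h => ?_
    rw [h, pow_zero] at hn
    exact absurd hn (Finite.one_lt_card (α := Subgroup.center ↥(R : Subgroup G))).ne')
  refine ⟨((c : ↥(R : Subgroup G)) : G), ?_, (c : ↥(R : Subgroup G)).2, fun r hr => ?_⟩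
  · rw [Subgroup.orderOf_coe, Subgroup.orderOf_coe, hc]
  · exact Subgroup.mem_centralizer_singleton_iff.mpr
      (congrArg Subtype.val (Subgroup.mem_center_iff.mp c.2 ⟨r, hr⟩))

/-- The core involution is central in a Sylow subgroup of `G` through a given two-subgroup. -/
theorem exists_sylow_of_isCore (h2 : 2 ∣ Nat.card G) {M : Subgroup G} {u : G} (hu : IsCore M u)
    {P : Subgroup G} (hP : IsPGroup 2 P) (hPM : P ≤ M) :
    ∃ R : Sylow 2 G, P ≤ (R : Subgroup G) ∧ Cen R u := by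
  haveI : Fact (Nat.Prime 2) := ⟨Nat.prime_two⟩
  obtain ⟨T, hT⟩ := (hP.of_equiv (Subgroup.subgroupOfEquivOfLe hPM).symm).exists_le_sylow
  obtain ⟨R, hR⟩ := (T.isPGroup'.map M.subtype).exists_le_sylow
  obtain ⟨w, hw⟩ := exists_cen h2 R
  have hQT : Cfsg.pCore 2 ↥M ≤ (T : Subgroup ↥M) :=
    (Cores.pCore_isPGroup 2 ↥M).le_sylow_of_normal T
  obtain ⟨hu2, hMu, ⟨huM, huQ⟩, huniq⟩ := hu
  have hwM : w ∈ M := by
    rw [hMu, Subgroup.mem_centralizer_singleton_iff]
    exact (Subgroup.mem_centralizer_singleton_iff.mp (hw.2.2 (hR ⟨_, hQT huQ, rfl⟩))).symm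
  have hwu : w = u := huniq w hw.1 hwM <| Subgroup.mem_centralizer_iff.mpr fun q hq =>
    Subtype.ext (Subgroup.mem_centralizer_singleton_iff.mp (hw.2.2 (hR ⟨q, hQT hq, rfl⟩)))
  exact ⟨R, fun x hx => hR ⟨⟨x, hPM hx⟩, hT hx, rfl⟩, hwu ▸ hw⟩

/-- The centraliser of a central involution of a Sylow subgroup determines it. -/
theorem isCore_of_cen_le {M : Subgroup G} {u : G} (hu : IsCore M u) {R : Sylow 2 G} {w : G}
    (hw : Cen R w) (hRM : (R : Subgroup G) ≤ M) : w = u := by
  haveI : Fact (Nat.Prime 2) := ⟨Nat.prime_two⟩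
  refine hu.2.2.2 w hw.1 (hRM hw.2.1) (Subgroup.mem_centralizer_iff.mpr fun q hq => Subtype.ext ?_)
  have hQT := (Cores.pCore_isPGroup 2 ↥M).le_sylow_of_normal (R.subtype hRM)
  have hqR : (q : G) ∈ (R : Subgroup G) := hQT hq
  exact Subgroup.mem_centralizer_singleton_iff.mp (hw.2.2 hqR)

theorem cen_unique (hc : CyclicCentres G) {R : Sylow 2 G} {w w' : G} (hw : Cen R w)
    (hw' : Cen R w') : w = w' := by
  obtain ⟨M, hM, hle⟩ := exists_maximal_ge (isTwoLocal_centralizer hw.1)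
  obtain ⟨u, hu⟩ := exists_isCore hc hM
  rw [isCore_of_cen_le hu hw (hw.2.2.trans hle), isCore_of_cen_le hu hw' (hw.2.2.trans hle)]

theorem lt_inf_normalizer {p : ℕ} [Fact p.Prime] {H D : Subgroup G} (hH : IsPGroup p H)
    (hlt : D < H) : D < H ⊓ Subgroup.normalizer (D : Set G) := by
  haveI := hH.isNilpotent
  have hD : D.subgroupOf H < ⊤ :=
    lt_top_iff_ne_top.mpr fun h => hlt.not_ge (Subgroup.subgroupOf_eq_top.mp h)
  have h := Group.normalizerCondition_of_isNilpotent (G := H) (D.subgroupOf H) hD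
  rw [SetLike.lt_iff_le_and_exists] at h ⊢
  refine ⟨le_inf hlt.le Subgroup.le_normalizer, ?_⟩
  obtain ⟨-, x, hx, hxD⟩ := h
  refine ⟨(x : G), ⟨x.2, Subgroup.mem_normalizer_iff.mpr fun y => ?_⟩, hxD⟩
  constructor
  · intro hy
    exact (Subgroup.mem_normalizer_iff.mp hx (⟨y, hlt.le hy⟩ : H)).mp hy
  · intro hy
    have hyH : y ∈ H := by
      have := H.mul_mem (H.mul_mem (H.inv_mem x.2) (hlt.le hy)) x.2
      simpa [mul_assoc] using this
    exact (Subgroup.mem_normalizer_iff.mp hx (⟨y, hyH⟩ : H)).mpr hy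

/-- A central involution of one Sylow subgroup lying in another is central there. -/
theorem no_pair (hc : CyclicCentres G) (h2 : 2 ∣ Nat.card G) :
    ∀ (k : ℕ) (R R' : Sylow 2 G) (w w' : G),
      Nat.card G - Nat.card ↥((R : Subgroup G) ⊓ (R' : Subgroup G)) = k →
      Cen R w → Cen R' w' → w ∈ (R' : Subgroup G) → w = w' := by
  haveI : Fact (Nat.Prime 2) := ⟨Nat.prime_two⟩
  intro k
  induction k using Nat.strong_induction_on with
  | _ k ih =>
    intro R R' w w' hk hw hw' hwR'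
    by_contra hne
    set D := (R : Subgroup G) ⊓ (R' : Subgroup G) with hD
    have hwD : w ∈ D := ⟨hw.2.1, hwR'⟩
    have hne' : (R : Subgroup G) ≠ (R' : Subgroup G) := fun h =>
      hne (cen_unique hc hw (Sylow.ext h ▸ hw'))
    have hcard : Nat.card (R : Subgroup G) = Nat.card (R' : Subgroup G) := by
      rw [R.card_eq_multiplicity, R'.card_eq_multiplicity]
    have hDR : D < (R : Subgroup G) := lt_of_le_of_ne inf_le_left fun h =>
      hne' (Subgroup.eq_of_le_of_card_ge (inf_eq_left.mp h) hcard.ge)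
    have hDR' : D < (R' : Subgroup G) := lt_of_le_of_ne inf_le_right fun h =>
      hne' (Subgroup.eq_of_le_of_card_ge (inf_eq_right.mp h) hcard.le).symm
    have hD1 : D ≠ ⊥ := fun h => ne_one_of_orderOf_two hw.1 (Subgroup.mem_bot.mp (h ▸ hwD))
    have hDp : IsPGroup 2 D := R.isPGroup'.to_le inf_le_left
    obtain ⟨M, hM, hle⟩ := exists_maximal_ge
      (N := Subgroup.normalizer (D : Set G)) ⟨D, hDp, hD1, rfl⟩
    obtain ⟨u, hu⟩ := exists_isCore hc hM
    have hbig : ∀ A B : Sylow 2 G, D < (A : Subgroup G) ⊓ (B : Subgroup G) →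
        Nat.card G - Nat.card ↥((A : Subgroup G) ⊓ (B : Subgroup G)) < k := by
      intro A B hlt
      have h1 : Nat.card D < Nat.card ↥((A : Subgroup G) ⊓ (B : Subgroup G)) :=
        lt_of_le_of_ne (Subgroup.card_le_of_le hlt.le) fun h =>
          hlt.ne (Subgroup.eq_of_le_of_card_ge hlt.le h.ge)
      have h3 := Subgroup.card_le_card_group ((A : Subgroup G) ⊓ (B : Subgroup G))
      omega
    by_cases huw : u = w
    · obtain ⟨R'', hR'', hcen⟩ := exists_sylow_of_isCore h2 hu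
        (P := (R' : Subgroup G) ⊓ Subgroup.normalizer (D : Set G))
        (R'.isPGroup'.to_le inf_le_left) (inf_le_right.trans hle)
      refine hne (huw ▸ ih _ (hbig R'' R' ?_) R'' R' u w' rfl hcen hw' (huw ▸ hwR'))
      exact (lt_inf_normalizer R'.isPGroup' hDR').trans_le (le_inf hR'' inf_le_left)
    · obtain ⟨R'', hR'', hcen⟩ := exists_sylow_of_isCore h2 hu
        (P := (R : Subgroup G) ⊓ Subgroup.normalizer (D : Set G))
        (R.isPGroup'.to_le inf_le_left) (inf_le_right.trans hle)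
      refine huw (ih _ (hbig R R'' ?_) R R'' w u rfl hw hcen
        (hR'' ⟨hw.2.1, Subgroup.le_normalizer hwD⟩)).symm
      exact (lt_inf_normalizer R.isPGroup' hDR).trans_le (le_inf inf_le_left hR'')

/-- Central involutions are isolated. -/
theorem isIsolated_of_cen (hc : CyclicCentres G) (h2 : 2 ∣ Nat.card G) {S : Sylow 2 G} {z : G}
    (hz : Cen S z) : Cfsg.IsIsolated z := by
  haveI : Fact (Nat.Prime 2) := ⟨Nat.prime_two⟩
  intro g hg
  set y := g * z * g⁻¹ with hy
  have hyo : orderOf y = 2 := by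
    rw [hy, ← MulAut.conj_apply]
    exact (orderOf_injective (MulAut.conj g).toMonoidHom (MulAut.conj g).injective z).trans hz.1
  obtain ⟨M, hM, hle⟩ := exists_maximal_ge (isTwoLocal_centralizer hyo)
  obtain ⟨u, hu⟩ := exists_isCore hc hM
  have hcy : Cen (g • S) y := by
    refine ⟨hyo, ?_, ?_⟩
    · rw [Sylow.coe_subgroup_smul]
      exact ⟨z, hz.2.1, by simp [y]⟩
    · rw [Sylow.coe_subgroup_smul]
      rintro _ ⟨s, hs, rfl⟩
      have h := Subgroup.mem_centralizer_singleton_iff.mp (hz.2.2 hs)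
      rw [Subgroup.mem_centralizer_singleton_iff]
      simp only [MulDistribMulAction.toMonoidEnd_apply, MulDistribMulAction.toMonoidHom_apply,
        MulAut.smul_def, MulAut.conj_apply]
      show g * s * g⁻¹ * (g * z * g⁻¹) = g * z * g⁻¹ * (g * s * g⁻¹)
      calc g * s * g⁻¹ * (g * z * g⁻¹) = g * (s * z) * g⁻¹ := by group
        _ = g * (z * s) * g⁻¹ := by rw [h]
        _ = g * z * g⁻¹ * (g * s * g⁻¹) := by group
  have hyu : y = u := isCore_of_cen_le hu hcy (hcy.2.2.trans hle)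
  have hzM : z ∈ M := hle (Subgroup.mem_centralizer_singleton_iff.mpr hg.eq)
  obtain ⟨R, hR, hcen⟩ := exists_sylow_of_isCore h2 hu (P := Subgroup.zpowers z)
    (isPGroup_zpowers_of_involution hz.1) (Subgroup.zpowers_le.mpr hzM)
  exact (no_pair hc h2 _ S R z u rfl hz hcen (hR (Subgroup.mem_zpowers z))).trans hyu.symm |>.symm

end Cfsg.Agent.Lib.EarlyCharTwo
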