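import Cfsg.Agent.Lib.EarlyCharTwo.Balance
import Cfsg.Agent.Lib.OddLocal.TransitivityThm
import Cfsg.Agent.Lib.Coprime.Generation

/-!
Vanishing of the odd cores of involution centralisers in characteristic two type in the early sense.
-/

set_option autoImplicit false

namespace Cfsg.Agent.Lib.EarlyCharTwo

variable {G : Type*} [Group G]

/-- Local constraint. -/
def LocallyConstrained (G : Type*) [Group G] : Prop :=
  ∀ T : Subgroup G, IsPGroup 2 ↥T → T ≠ ⊥ →
    Cfsg.IsPConstrained 2 ↥(Subgroup.normalizer (T : Set G))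

theorem eq_one_or_eq_of_mem_zpowers {x y : G} (hx : x * x = 1) (hy : y ∈ Subgroup.zpowers x) :
    y = 1 ∨ y = x := by
  obtain ⟨n, rfl⟩ := Subgroup.mem_zpowers_iff.mp hy
  rcases Int.even_or_odd n with ⟨m, rfl⟩ | ⟨m, rfl⟩
  · exact Or.inl (by rw [zpow_add, ← (Commute.refl x).mul_zpow, hx, one_zpow])
  · refine Or.inr ?_
    rw [zpow_add, zpow_one, two_mul, zpow_add, ← (Commute.refl x).mul_zpow, hx, one_zpow, one_mul]

theorem isPGroup_zpowers_of_involution {x : G} (hx : orderOf x = 2) :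
    IsPGroup 2 ↥(Subgroup.zpowers x) :=
  IsPGroup.of_card (n := 1) (by rw [Nat.card_zpowers, hx, pow_one])

theorem mul_self_of_orderOf_two {x : G} (hx : orderOf x = 2) : x * x = 1 := by
  rw [← pow_two, ← hx, pow_orderOf_eq_one]

theorem normalizer_zpowers_of_involution {x : G} (hx : orderOf x = 2) :
    Subgroup.normalizer (Subgroup.zpowers x : Set G) = Subgroup.centralizer ({x} : Set G) := by
  have hsq := mul_self_of_orderOf_two hx
  ext g
  rw [Subgroup.mem_centralizer_singleton_iff]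
  constructor
  · intro hg
    have h1 := (Subgroup.mem_normalizer_iff.mp hg x).mp (Subgroup.mem_zpowers x)
    rcases eq_one_or_eq_of_mem_zpowers hsq h1 with h | h
    · exfalso
      have h2 : x = 1 := by
        have : g⁻¹ * (g * x * g⁻¹) * g = x := by group
        rw [h] at this
        simpa using this.symm
      rw [h2, orderOf_one] at hx
      omega
    · calc g * x = g * x * g⁻¹ * g := by group
        _ = x * g := by rw [h]
  · intro hg
    refine Subgroup.centralizer_le_normalizer _ (Subgroup.mem_centralizer_iff.mpr fun y hy => ?_)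
    rcases eq_one_or_eq_of_mem_zpowers hsq hy with h | h <;> subst h
    · simp
    · exact hg.symm

theorem ne_one_of_orderOf_two {x : G} (hx : orderOf x = 2) : x ≠ 1 := by
  intro h
  rw [h, orderOf_one] at hx
  omega

theorem zpowers_ne_bot_of_involution {x : G} (hx : orderOf x = 2) : Subgroup.zpowers x ≠ ⊥ :=
  fun h => ne_one_of_orderOf_two hx (Subgroup.mem_bot.mp (h ▸ Subgroup.mem_zpowers x))

theorem orderOf_two_of_mul_self {x : G} (h : x * x = 1) (h1 : x ≠ 1) : orderOf x = 2 := by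
  haveI : Fact (Nat.Prime 2) := ⟨Nat.prime_two⟩
  exact orderOf_eq_prime (by rwa [pow_two]) h1

theorem constrained_centralizer (hcon : LocallyConstrained G) {x : G} (hx : orderOf x = 2) :
    Cfsg.IsPConstrained 2 ↥(Subgroup.centralizer ({x} : Set G)) := by
  have h := hcon _ (isPGroup_zpowers_of_involution hx) (zpowers_ne_bot_of_involution hx)
  rwa [normalizer_zpowers_of_involution hx] at h

variable [Finite G]

/-- The group is balanced. -/
theorem balance (hcon : LocallyConstrained G) {x y : G} (hx : orderOf x = 2) (hy : orderOf y = 2)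
    (hxy : Commute x y) :
    Cfsg.centralizerPPrimeCore 2 x ⊓ Subgroup.centralizer ({y} : Set G) ≤
      Cfsg.centralizerPPrimeCore 2 y := by
  rw [← oddCoreIn_centralizer, ← oddCoreIn_centralizer]
  refine le_oddCoreIn_of_constrained (constrained_centralizer hcon hy)
    (isPGroup_zpowers_of_involution hx) ?_ inf_le_right ?_ ?_ ?_
  · exact Subgroup.zpowers_le.mpr (Subgroup.mem_centralizer_singleton_iff.mpr hxy.eq)
  · exact (odd_card_oddCoreIn _).of_dvd_nat (Subgroup.card_dvd_of_le inf_le_left)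
  · intro k hk
    exact (Subgroup.mem_centralizer_iff.mpr fun t ht => by
      rcases eq_one_or_eq_of_mem_zpowers (mul_self_of_orderOf_two hx) ht with h | h <;> subst h
      · simp
      · exact (Subgroup.mem_centralizer_singleton_iff.mp
          (oddCoreIn_le _ hk.1)).symm)
  · refine le_trans (le_inf ?_ ?_) Subgroup.inf_normalizer_le_normalizer_inf
    · refine le_trans ?_ (le_normalizer_oddCoreIn _)
      exact inf_le_right.trans (Subgroup.centralizer_le (by simp))
    · exact inf_le_left.trans Subgroup.le_normalizer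

/-- An element inverting a subgroup with no fixed points makes it abelian. -/
theorem isMulCommutative_of_fixed_point_free {K : Subgroup G} {z : G} (hz : z * z = 1)
    (hn : z ∈ Subgroup.normalizer (K : Set G))
    (hfix : K ⊓ Subgroup.centralizer ({z} : Set G) = ⊥) : IsMulCommutative K := by
  have hzi : z⁻¹ = z := inv_eq_of_mul_eq_one_right hz
  let φ : ↥K →* ↥K :=
    { toFun := fun k => ⟨z * k * z⁻¹, (Subgroup.mem_normalizer_iff.mp hn _).mp k.2⟩
      map_one' := Subtype.ext (by simp)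
      map_mul' := fun a b => Subtype.ext (by simp [mul_assoc]) }
  have hfree : MonoidHom.FixedPointFree φ := by
    intro k hk
    have h1 : z * (k : G) * z⁻¹ = k := congrArg Subtype.val hk
    have h2 : (k : G) ∈ K ⊓ Subgroup.centralizer ({z} : Set G) := by
      refine ⟨k.2, Subgroup.mem_centralizer_singleton_iff.mpr ?_⟩
      calc (k : G) * z = z * k * z⁻¹ * z := by rw [h1]
        _ = z * k := by group
    rw [hfix, Subgroup.mem_bot] at h2
    exact Subtype.ext h2
  have hinv : Function.Involutive φ := by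
    intro k
    apply Subtype.ext
    show z * (z * (k : G) * z⁻¹) * z⁻¹ = k
    rw [hzi, show z * (z * (k : G) * z) * z = (z * z) * k * (z * z) by group, hz]
    simp
  exact ⟨⟨fun a b => hfree.commute_all_of_involutive hinv a b⟩⟩

/-- Odd cores of centralisers of involutions commuting with `z` are abelian. -/
theorem isMulCommutative_core (hcon : LocallyConstrained G) {z x : G} (hz : orderOf z = 2)
    (hz0 : Cfsg.centralizerPPrimeCore 2 z = ⊥) (hx : orderOf x = 2) (hxz : Commute x z) :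
    IsMulCommutative (Cfsg.centralizerPPrimeCore 2 x) := by
  refine isMulCommutative_of_fixed_point_free (mul_self_of_orderOf_two hz)
    (le_normalizer_oddCoreIn _ (Subgroup.mem_centralizer_singleton_iff.mpr hxz.symm.eq)) ?_
  exact le_bot_iff.mp ((balance hcon hx hz hxz).trans hz0.le)

theorem map_conj_core_le (g x : G) :
    (Cfsg.centralizerPPrimeCore 2 x).map (MulAut.conj g).toMonoidHom ≤
      Cfsg.centralizerPPrimeCore 2 (g * x * g⁻¹) := by
  rw [← oddCoreIn_centralizer, ← oddCoreIn_centralizer]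
  refine le_oddCoreIn ?_ ?_ ?_
  · rintro _ ⟨k, hk, rfl⟩
    have h := Subgroup.mem_centralizer_singleton_iff.mp (oddCoreIn_le _ hk)
    rw [Subgroup.mem_centralizer_singleton_iff]
    simp only [MulEquiv.coe_toMonoidHom, MulAut.conj_apply]
    rw [show g * k * g⁻¹ * (g * x * g⁻¹) = g * (k * x) * g⁻¹ by group, h]
    group
  · intro c hc
    have h := Subgroup.mem_centralizer_singleton_iff.mp hc
    have hc' : g⁻¹ * c * g ∈ Subgroup.centralizer ({x} : Set G) := by
      rw [Subgroup.mem_centralizer_singleton_iff]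
      calc g⁻¹ * c * g * x = g⁻¹ * (c * (g * x * g⁻¹)) * g := by group
        _ = x * (g⁻¹ * c * g) := by rw [h]; group
    have h1 : g * (g⁻¹ * c * g) * g⁻¹ ∈ Subgroup.map (MulAut.conj g).toMonoidHom
        (Subgroup.normalizer (oddCoreIn (Subgroup.centralizer ({x} : Set G)) : Set G)) :=
      ⟨_, le_normalizer_oddCoreIn _ hc', rfl⟩
    rw [show g * (g⁻¹ * c * g) * g⁻¹ = c by group] at h1
    exact Subgroup.le_normalizer_map _ h1
  · rw [Subgroup.card_map_of_injective (MulAut.conj g).injective]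
    exact odd_card_oddCoreIn _

theorem core_eq_bot_of_conj {g x : G}
    (h : Cfsg.centralizerPPrimeCore 2 (g * x * g⁻¹) = ⊥) :
    Cfsg.centralizerPPrimeCore 2 x = ⊥ := by
  have h1 := (map_conj_core_le g x).trans h.le
  rwa [le_bot_iff, Subgroup.map_eq_bot_iff_of_injective _ (MulAut.conj g).injective] at h1

/-- Two subgroups of index at most two in a group of order more than four meet. -/
theorem inf_ne_bot_of_index_le_two {E H H' : Subgroup G} [IsMulCommutative E] (hcard : 4 < Nat.card E)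
    (hH : H ≤ E) (hH' : H' ≤ E) (h : Nat.card E ≤ 2 * Nat.card H)
    (h' : Nat.card E ≤ 2 * Nat.card H') : H ⊓ H' ≠ ⊥ := by
  intro hbot
  have hn : H' ≤ Subgroup.normalizer (H : Set G) := fun x hx =>
    Subgroup.centralizer_le_normalizer _ (Subgroup.mem_centralizer_iff.mpr fun y hy =>
      congrArg Subtype.val (mul_comm' (⟨y, hH hy⟩ : E) ⟨x, hH' hx⟩))
  have h1 := Coprime.card_sup_mul_card_inf (N := H) (H := H') hn
  rw [hbot, Subgroup.card_bot, mul_one] at h1
  have h2 := Subgroup.card_le_of_le (sup_le hH hH')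
  nlinarith

/-- Generation by the centralisers of subgroups of index at most two. -/
theorem le_iSup_corank_one {E Q : Subgroup G} (hEc : IsMulCommutative E)
    (hE : ∀ e ∈ E, e ^ 2 = 1) (hEQ : E ≤ Subgroup.normalizer (Q : Set G))
    (hQ : Odd (Nat.card Q)) (D : Subgroup G)
    (hD : ∀ H : Subgroup G, H ≤ E → Nat.card E ≤ 2 * Nat.card H →
      Q ⊓ Subgroup.centralizer (H : Set G) ≤ D) : Q ≤ D := by
  haveI : Fact (Nat.Prime 2) := ⟨Nat.prime_two⟩
  by_contra hQD
  have hEp : IsPGroup 2 E := fun e => ⟨1, Subtype.ext (by simpa using hE e e.2)⟩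
  obtain ⟨n, hn⟩ := IsPGroup.iff_card.mp hEp
  obtain ⟨H, h1, h2, h3⟩ := OddLocal.exists_centralizer_corank_one_outside hEc hE hQD hEQ
    (hn ▸ (Nat.coprime_two_left.mpr hQ).pow_left n)
  exact h3 (hD H h1 h2)

/-- Abelian subgroups of odd order pairwise commuting generate an abelian subgroup of odd order. -/
theorem odd_card_sSup_of_commute {W : Set (Subgroup G)}
    (hodd : ∀ Y ∈ W, Odd (Nat.card Y))
    (hcomm : ∀ Y ∈ W, ∀ Y' ∈ W, ∀ a ∈ Y, ∀ b ∈ Y', a * b = b * a) :
    Odd (Nat.card ↥(sSup W)) := by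
  haveI : Fact (Nat.Prime 2) := ⟨Nat.prime_two⟩
  set C : Set G := {a | ∃ Y ∈ W, a ∈ Y} with hC
  have hle : sSup W ≤ Subgroup.closure C :=
    sSup_le fun Y hY a ha => Subgroup.subset_closure ⟨Y, hY, ha⟩
  haveI : IsMulCommutative (Subgroup.closure C) := Subgroup.isMulCommutative_closure fun a ha b hb => by
    obtain ⟨Y, hY, ha⟩ := ha
    obtain ⟨Y', hY', hb⟩ := hb
    exact hcomm Y hY Y' hY' a ha b hb
  refine Odd.of_dvd_nat ?_ (Subgroup.card_dvd_of_le hle)
  obtain ⟨k, m, hm2, hm⟩ := Nat.exists_eq_two_pow_mul_odd (Nat.card_pos (α := G)).ne'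
  have hgen : ∀ a ∈ C, a ^ m = 1 := by
    rintro a ⟨Y, hY, ha⟩
    refine orderOf_dvd_iff_pow_eq_one.mp ?_
    have h1 : orderOf a ∣ Nat.card Y := Subgroup.orderOf_dvd_natCard Y ha
    have h2 : orderOf a ∣ 2 ^ k * m := hm ▸ orderOf_dvd_natCard a
    exact (Nat.Coprime.dvd_mul_left
      (((Nat.coprime_two_right.mpr (hodd Y hY)).coprime_dvd_left h1).pow_right k)).mp h2
  have hall : ∀ w : ↥(Subgroup.closure C), w ^ m = 1 := by
    rintro ⟨w, hw⟩
    induction hw using Subgroup.closure_induction with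
    | mem a ha => exact Subtype.ext (by simpa using hgen a ha)
    | one => exact one_pow m
    | mul a b ha hb iha ihb =>
      have hab : Commute (⟨a, ha⟩ : ↥(Subgroup.closure C)) ⟨b, hb⟩ := mul_comm' _ _
      have h := hab.mul_pow m
      rw [iha, ihb, one_mul] at h
      exact h
    | inv a ha iha =>
      have h := inv_pow (⟨a, ha⟩ : ↥(Subgroup.closure C)) m
      rw [iha, inv_one] at h
      exact h
  rw [← Nat.not_even_iff_odd, even_iff_two_dvd]
  intro h2
  obtain ⟨w, hw⟩ := exists_prime_orderOf_dvd_card' 2 h2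
  have := orderOf_dvd_of_pow_eq_one (hall w)
  rw [hw] at this
  exact (Nat.not_even_iff_odd.mpr hm2) (even_iff_two_dvd.mpr this)

/-- The odd cores of the centralisers of the involutions of `E` are trivial. -/
theorem core_eq_bot_of_mem (hcon : LocallyConstrained G) {S E : Subgroup G} {z : G}
    (hinv : ∀ X : Subgroup G, Odd (Nat.card ↥X) → S ≤ Subgroup.normalizer (X : Set G) → X = ⊥)
    (hz : orderOf z = 2) (hz0 : Cfsg.centralizerPPrimeCore 2 z = ⊥) (hzE : z ∈ E)
    (hEc : IsMulCommutative E) (hE : ∀ e ∈ E, e ^ 2 = 1) (hE4 : 4 < Nat.card E)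
    (hSE : S ≤ Subgroup.normalizer (E : Set G)) {a : G} (haE : a ∈ E) (ha : a ≠ 1) :
    Cfsg.centralizerPPrimeCore 2 a = ⊥ := by
  haveI := hEc
  have hord : ∀ e ∈ E, e ≠ 1 → orderOf e = 2 := fun e he h1 =>
    orderOf_two_of_mul_self (by simpa [pow_two] using hE e he) h1
  have hcm : ∀ x ∈ E, ∀ y ∈ E, Commute x y := fun x hx y hy =>
    congrArg Subtype.val (mul_comm' (⟨x, hx⟩ : E) ⟨y, hy⟩)
  set θ := fun b : G => Cfsg.centralizerPPrimeCore 2 b with hθ
  set W : Set (Subgroup G) := {Y | ∃ b ∈ E, b ≠ 1 ∧ ∃ H : Subgroup G, H ≤ E ∧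
    Nat.card E ≤ 2 * Nat.card H ∧ Y = θ b ⊓ Subgroup.centralizer (H : Set G)} with hW
  have hgenW : ∀ b ∈ E, b ≠ 1 → θ b ≤ sSup W := by
    intro b hb hb1
    refine le_iSup_corank_one hEc hE ?_ (odd_card_oddCoreIn _) _
      fun H hH h2 => le_sSup ⟨b, hb, hb1, H, hH, h2, rfl⟩
    intro e he
    exact le_normalizer_oddCoreIn _
      (Subgroup.mem_centralizer_singleton_iff.mpr (hcm e he b hb).eq)
  have hodd : Odd (Nat.card ↥(sSup W)) := by
    refine odd_card_sSup_of_commute ?_ ?_
    · rintro _ ⟨b, -, -, H, -, -, rfl⟩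
      exact (odd_card_oddCoreIn _).of_dvd_nat (Subgroup.card_dvd_of_le inf_le_left)
    · rintro _ ⟨b, hb, hb1, H, hH, hH2, rfl⟩ _ ⟨b', hb', hb1', H', hH', hH2', rfl⟩ u hu v hv
      obtain ⟨f, hf, hf1⟩ := (Subgroup.ne_bot_iff_exists_ne_one).mp
        (inf_ne_bot_of_index_le_two hE4 hH hH' hH2 hH2') |> fun ⟨f, hf⟩ =>
          (⟨f, f.2, fun h => hf (Subtype.ext h)⟩ : ∃ f : G, f ∈ H ⊓ H' ∧ f ≠ 1)
      have hfo := hord f (hH hf.1) hf1
      have hmem : ∀ {c : G} {K : Subgroup G}, c ∈ E → c ≠ 1 → f ∈ K → ∀ y ∈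
          θ c ⊓ Subgroup.centralizer (K : Set G), y ∈ θ f := fun {c K} hc hc1 hfK y hy =>
        balance hcon (hord c hc hc1) hfo (hcm c hc f (hH hf.1)) ⟨hy.1,
          Subgroup.mem_centralizer_singleton_iff.mpr
            (Subgroup.mem_centralizer_iff.mp hy.2 f hfK).symm⟩
      haveI := isMulCommutative_core hcon hz hz0 hfo (hcm f (hH hf.1) z hzE)
      exact congrArg Subtype.val (mul_comm'
        (⟨u, hmem hb hb1 hf.1 u hu⟩ : ↥(Cfsg.centralizerPPrimeCore 2 f))
        ⟨v, hmem hb' hb1' hf.2 v hv⟩)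
  have hS : S ≤ Subgroup.normalizer ((sSup W : Subgroup G) : Set G) := by
    intro s hs
    refine Subgroup.mem_normalizer_iff_map_conj_eq.mpr (Subgroup.eq_of_le_of_card_ge ?_ ?_)
    · rw [Subgroup.map_le_iff_le_comap]
      refine sSup_le ?_
      rintro _ ⟨b, hb, hb1, H, -, -, rfl⟩
      rw [← Subgroup.map_le_iff_le_comap]
      refine (Subgroup.map_mono inf_le_left).trans ((map_conj_core_le s b).trans ?_)
      refine hgenW _ ((Subgroup.mem_normalizer_iff.mp (hSE hs) b).mp hb) fun h => hb1 ?_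
      have : b = s⁻¹ * (s * b * s⁻¹) * s := by group
      rw [this, h]; group
    · rw [Subgroup.card_map_of_injective (MulAut.conj s).injective]
  exact le_bot_iff.mp ((hgenW a haE ha).trans (hinv _ hodd hS).le)

/-- All odd cores of centralisers of involutions are trivial. -/
theorem core_eq_bot (hcon : LocallyConstrained G) {S : Sylow 2 G} {E : Subgroup G}
    (hEc : IsMulCommutative E) (hE : ∀ e ∈ E, e ^ 2 = 1) (hE4 : 4 < Nat.card E)
    (hSE : (S : Subgroup G) ≤ Subgroup.normalizer (E : Set G))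
    (h0 : ∀ e ∈ E, e ≠ 1 → Cfsg.centralizerPPrimeCore 2 e = ⊥) {x : G} (hx : orderOf x = 2) :
    Cfsg.centralizerPPrimeCore 2 x = ⊥ := by
  haveI : Fact (Nat.Prime 2) := ⟨Nat.prime_two⟩
  obtain ⟨R, hR⟩ := (isPGroup_zpowers_of_involution hx).exists_le_sylow
  obtain ⟨g, hg⟩ := MulAction.exists_smul_eq G R S
  apply core_eq_bot_of_conj (g := g)
  set x' := g * x * g⁻¹ with hx'
  have hxS : x' ∈ (S : Subgroup G) := by
    rw [← hg, Sylow.coe_subgroup_smul]
    exact ⟨x, hR (Subgroup.mem_zpowers x), by simp [x']⟩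
  have ho : orderOf x' = 2 := by
    rw [hx', ← MulAut.conj_apply]
    exact (orderOf_injective (MulAut.conj g).toMonoidHom (MulAut.conj g).injective x).trans hx
  have hn := hSE hxS
  have hxi : x'⁻¹ = x' := inv_eq_of_mul_eq_one_right (mul_self_of_orderOf_two ho)
  haveI := hEc
  have hsq : ∀ e ∈ E, e * e = 1 := fun e he => by simpa [pow_two] using hE e he
  let τ : ↥E →* ↥E :=
    { toFun := fun e => ⟨(e : G) * (x' * e * x'⁻¹),
        E.mul_mem e.2 ((Subgroup.mem_normalizer_iff.mp hn _).mp e.2)⟩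
      map_one' := Subtype.ext (by simp)
      map_mul' := fun a b => Subtype.ext (by
        have h1 := congrArg Subtype.val (mul_comm' b
          (⟨x' * a * x'⁻¹, (Subgroup.mem_normalizer_iff.mp hn _).mp a.2⟩ : ↥E))
        simp only [Subgroup.coe_mul] at h1 ⊢
        calc (a : G) * b * (x' * (a * b) * x'⁻¹)
            = a * (b * (x' * a * x'⁻¹)) * (x' * b * x'⁻¹) := by group
          _ = _ := by rw [h1]; group) }
  set F : Subgroup G := E ⊓ Subgroup.centralizer ({x'} : Set G) with hF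
  have hker : ∀ e : ↥E, e ∈ τ.ker → (e : G) ∈ F := by
    intro e he
    refine ⟨e.2, Subgroup.mem_centralizer_singleton_iff.mpr ?_⟩
    have h1 : (e : G) * (x' * e * x'⁻¹) = 1 := congrArg Subtype.val he
    have h2 : x' * (e : G) * x'⁻¹ = e := by
      calc x' * (e : G) * x'⁻¹ = ((e : G) * e) * (x' * e * x'⁻¹) := by rw [hsq _ e.2, one_mul]
        _ = e := by rw [mul_assoc, h1, mul_one]
    calc (e : G) * x' = x' * e * x'⁻¹ * x' := by rw [h2]
      _ = x' * e := by group
  have hrange : τ.range ≤ τ.ker := by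
    rintro _ ⟨e, rfl⟩
    rw [MonoidHom.mem_ker]
    apply Subtype.ext
    show (e : G) * (x' * e * x'⁻¹) * (x' * ((e : G) * (x' * e * x'⁻¹)) * x'⁻¹) = 1
    have h1 := congrArg Subtype.val (mul_comm' e
      (⟨x' * e * x'⁻¹, (Subgroup.mem_normalizer_iff.mp hn _).mp e.2⟩ : ↥E))
    simp only [Subgroup.coe_mul] at h1
    have h2 : x' * ((e : G) * (x' * e * x'⁻¹)) * x'⁻¹ = (x' * e * x'⁻¹) * e := by
      rw [hxi]
      calc x' * ((e : G) * (x' * e * x')) * x' = x' * e * x' * e * (x' * x') := by group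
        _ = x' * e * x' * e := by rw [mul_self_of_orderOf_two ho, mul_one]
    rw [h2, ← h1]
    exact hsq _ (E.mul_mem e.2 ((Subgroup.mem_normalizer_iff.mp hn _).mp e.2))
  have hcard : Nat.card E ≤ Nat.card F * Nat.card F := by
    have h1 : Nat.card τ.ker ≤ Nat.card F :=
      Nat.card_le_card_of_injective (fun e : τ.ker => (⟨((e : ↥E) : G), hker e e.2⟩ : ↥F))
        fun a b h => Subtype.ext (Subtype.ext (congrArg (fun y : ↥F => (y : G)) h))
    have h2 := Subgroup.card_le_of_le hrange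
    have h3 := τ.ker.card_eq_card_quotient_mul_card_subgroup
    rw [Nat.card_congr (QuotientGroup.quotientKerEquivRange τ).toEquiv] at h3
    nlinarith
  haveI : IsMulCommutative F := ⟨⟨fun a b => Subtype.ext
    (congrArg (fun y : ↥E => (y : G)) (mul_comm' (⟨a, a.2.1⟩ : ↥E) ⟨b, b.2.1⟩) :)⟩⟩
  have hFcyc : ¬ IsCyclic F := by
    intro hc
    obtain ⟨g, hg⟩ := hc.exists_generator
    have h1 : Nat.card F ∣ 2 := by
      rw [← orderOf_eq_card_of_forall_mem_zpowers hg, ← Subgroup.orderOf_coe]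
      exact orderOf_dvd_of_pow_eq_one (hE _ g.2.1)
    have := Nat.le_of_dvd two_pos h1
    nlinarith
  set K := Cfsg.centralizerPPrimeCore 2 x' with hK
  have hFK : F ≤ Subgroup.normalizer (K : Set G) := inf_le_right.trans (le_normalizer_oddCoreIn _)
  have hFp : IsPGroup 2 F := fun e => ⟨1, Subtype.ext (by simpa using hE e e.2.1)⟩
  obtain ⟨n, hn'⟩ := IsPGroup.iff_card.mp hFp
  rw [← le_bot_iff, ← Coprime.iSup_centralizer_eq hFcyc hFK
    (hn' ▸ (Nat.coprime_two_left.mpr (odd_card_oddCoreIn _)).pow_left n)]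
  refine iSup₂_le fun f hf => ?_
  refine (balance hcon ho (orderOf_two_of_mul_self (hsq f hf.1.1) hf.2) ?_).trans (h0 f hf.1.1 hf.2).le
  exact (Subgroup.mem_centralizer_singleton_iff.mp hf.1.2).symm

end Cfsg.Agent.Lib.EarlyCharTwo
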